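import Groth.Agent.CohPullX.FlatSections
import Groth.Agent.H23.TrivBasic
import Groth.Agent.Lib.GenLocusGG
import Mathlib.RingTheory.Nakayama
import Mathlib.RingTheory.Flat.FaithfullyFlat.Basic
import Mathlib.RingTheory.RingHom.FaithfullyFlat

/-!
# Invertible modules trivial after a faithfully flat base change, over semi-local global functions
-/

set_option autoImplicit false
set_option backward.isDefEq.respectTransparency false
set_option backward.isDefEq.respectTransparency.types false
set_option linter.style.haveILetI false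

universe u

open CategoryTheory CategoryTheory.Limits AlgebraicGeometry TopologicalSpace Opposite
open scoped TensorProduct

namespace Groth.Agent.PicSemiLocal

/-- The algebra: a rank one statement descends. -/
theorem exists_isUnit {A B R R' M : Type u} [CommRing A] [CommRing B] [Algebra A B] [Module.FaithfullyFlat A B]
    [CommRing R] [Algebra A R] [Finite (MaximalSpectrum R)] [CommRing R'] [Algebra A R'] [Algebra B R']
    [IsScalarTower A B R'] (ρ : R →ₐ[A] R') (hρ : IsBaseChange B ρ.toLinearMap)
    [AddCommGroup M] [Module A M] [Module R M] [IsScalarTower A R M]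
    (υ : M →ₗ[A] R') (hυ : IsBaseChange B υ) (hsm : ∀ (r : R) (x : M), υ (r • x) = ρ r * υ x) :
    ∃ s : M, IsUnit (υ s) := by
  classical
  -- `R'` is spanned by the image of `R`
  have span : ∀ w : R', w ∈ Submodule.span B (Set.range ρ) := fun w => by
    obtain ⟨t, rfl⟩ := hρ.equiv.surjective w
    induction t using TensorProduct.induction_on with
    | zero => simp
    | tmul b r => rw [IsBaseChange.equiv_tmul]; exact Submodule.smul_mem _ _ (Submodule.subset_span ⟨r, rfl⟩)
    | add a b ha hb => rw [map_add]; exact add_mem ha hb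
  -- finitely many sections generate `M`
  have hfg : (⊤ : Submodule R M).FG := by
    obtain ⟨t, ht⟩ := hυ.equiv.surjective 1
    obtain ⟨T, hT⟩ := TensorProduct.exists_finset t
    let M₀ : Submodule R M := Submodule.span R ((T.image Prod.snd : Finset M) : Set M)
    refine ⟨T.image Prod.snd, top_le_iff.1 fun x _ => ?_⟩
    suffices h : Function.Surjective (M₀.restrictScalars A).subtype by
      obtain ⟨y, rfl⟩ := h x
      exact y.2
    rw [← Module.FaithfullyFlat.lTensor_surjective_iff_surjective A B]
    intro z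
    let f := (M₀.restrictScalars A).subtype.baseChange B
    suffices hz : hυ.equiv z ∈ LinearMap.range (hυ.equiv.toLinearMap.comp f) by
      obtain ⟨a, ha⟩ := hz
      exact ⟨a, hυ.equiv.injective ha⟩
    generalize hυ.equiv z = w
    have h1 : ∀ r : R, ρ r ∈ LinearMap.range (hυ.equiv.toLinearMap.comp f) := fun r => by
      have e1 : ρ r = ∑ i ∈ T, i.1 • υ (r • i.2) := by
        calc ρ r = ρ r * hυ.equiv t := by rw [ht, mul_one]
          _ = _ := by
            rw [hT, map_sum, Finset.mul_sum]
            refine Finset.sum_congr rfl fun i _ => ?_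
            rw [IsBaseChange.equiv_tmul, hsm, mul_smul_comm]
      rw [e1]
      refine Submodule.sum_mem _ fun i hi => ?_
      refine ⟨i.1 ⊗ₜ (⟨r • i.2, M₀.smul_mem r (Submodule.subset_span (Finset.mem_coe.2
        (Finset.mem_image_of_mem _ hi)))⟩ : M₀.restrictScalars A), ?_⟩
      simp [f, IsBaseChange.equiv_tmul]
    exact (Submodule.span_le.2 (by rintro _ ⟨r, rfl⟩; exact h1 r)) (span w)
  -- the fibres at the maximal ideals
  have fib : ∀ m : MaximalSpectrum R, ∃ s : M, ∀ y : M,
      y ∈ Submodule.span R {s} ⊔ m.asIdeal • (⊤ : Submodule R M) := by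
    intro m
    haveI := m.isMaximal
    let I := m.asIdeal
    letI := Ideal.Quotient.field I
    let V := M ⧸ I • (⊤ : Submodule R M)
    let Q := B ⊗[A] (R ⧸ I)
    haveI : Nontrivial Q := inferInstance
    let e : B ⊗[A] R ≃ₗ[B] R' := hρ.equiv
    let eA : B ⊗[A] R →ₐ[B] R' := Algebra.TensorProduct.lift (Algebra.ofId B R') ρ fun _ _ => .all _ _
    have heA : ∀ z, eA z = e z := fun z => by
      induction z using TensorProduct.induction_on with
      | zero => simp
      | tmul b r => simp [eA, e, IsBaseChange.equiv_tmul, Algebra.smul_def]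
      | add a b ha hb => simp only [map_add, ha, hb]
    let E : B ⊗[A] R ≃ₐ[B] R' := AlgEquiv.ofBijective eA
      ⟨fun a b h => e.injective (by rw [← heA, ← heA, h]), fun w => by
        obtain ⟨z, rfl⟩ := e.surjective w; exact ⟨z, heA z⟩⟩
    let π : R' →ₐ[B] Q :=
      (Algebra.TensorProduct.map (AlgHom.id B B) (Ideal.Quotient.mkₐ A I)).comp E.symm.toAlgHom
    have hπ : ∀ r : R, π (ρ r) = (1 : B) ⊗ₜ Ideal.Quotient.mk I r := fun r => by
      have : E.symm (ρ r) = (1 : B) ⊗ₜ r := by
        rw [AlgEquiv.symm_apply_eq]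
        rw [AlgEquiv.coe_ofBijective]
        rw [heA, IsBaseChange.equiv_tmul, one_smul]
        rfl
      show Algebra.TensorProduct.map (AlgHom.id B B) (Ideal.Quotient.mkₐ A I) (E.symm (ρ r)) = _
      rw [this, Algebra.TensorProduct.map_tmul]
      rfl
    -- functionals on the fibre are multiples of `π ∘ υ`
    have hmk : ∀ (φ : Module.Dual (R ⧸ I) V) (r : R) (z : V), φ (r • z) = Ideal.Quotient.mk I r * φ z :=
      fun φ r z => by
        rw [← algebraMap_smul (R ⧸ I) r z, map_smul, smul_eq_mul, Ideal.Quotient.algebraMap_eq]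
    have key : ∀ φ : Module.Dual (R ⧸ I) V, ∃ c : Q, ∀ x : M,
        (1 : B) ⊗ₜ φ (Submodule.Quotient.mk x) = π (υ x) * c := by
      intro φ
      let φA : M →ₗ[A] Q :=
        { toFun := fun x => (1 : B) ⊗ₜ φ (Submodule.Quotient.mk x)
          map_add' := fun x y => by rw [Submodule.Quotient.mk_add, map_add, TensorProduct.tmul_add]
          map_smul' := fun a x => by
            have : φ (Submodule.Quotient.mk (a • x)) = a • φ (Submodule.Quotient.mk x) := by
              rw [← algebraMap_smul R a x, Submodule.Quotient.mk_smul]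
              rw [hmk, Algebra.smul_def]
              rfl
            rw [this, TensorProduct.tmul_smul]
            rfl }
      let Φ : R' →ₗ[B] Q := hυ.lift φA
      have hΦ : ∀ x, Φ (υ x) = (1 : B) ⊗ₜ φ (Submodule.Quotient.mk x) := fun x => hυ.lift_eq φA x
      have hr : ∀ (r : R) (w : R'), Φ (ρ r * w) = π (ρ r) * Φ w := fun r w => by
        refine DFunLike.congr_fun (hυ.algHom_ext (Φ.comp (LinearMap.mulLeft B (ρ r)))
          ((LinearMap.mulLeft B (π (ρ r))).comp Φ) fun x => ?_) w
        simp only [LinearMap.comp_apply, LinearMap.mulLeft_apply]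
        rw [← hsm, hΦ, hΦ, hπ, Algebra.TensorProduct.tmul_mul_tmul, mul_one, Submodule.Quotient.mk_smul]
        rw [hmk]
      have hall : ∀ v : R', Φ v = π v * Φ 1 := fun v => by
        induction span v using Submodule.span_induction with
        | mem v hv =>
          obtain ⟨r, rfl⟩ := hv
          simpa using hr r 1
        | zero => simp
        | add a b _ _ ha hb => rw [map_add, map_add, add_mul, ha, hb]
        | smul b a _ ha => rw [map_smul, map_smul, smul_mul_assoc, ha]
      exact ⟨Φ 1, fun x => (hΦ x).symm.trans (hall (υ x))⟩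
    obtain ⟨s, hs⟩ : ∃ s : M, (Submodule.Quotient.mk s : V) ≠ 0 := by
      by_contra hc
      push Not at hc
      have h1 : ∀ x : M, π (υ x) = 0 := fun x => by
        refine Submodule.smul_induction_on ((Submodule.Quotient.mk_eq_zero _).1 (hc x)) ?_ ?_
        · intro r hr n _
          rw [hsm, map_mul, hπ, Ideal.Quotient.eq_zero_iff_mem.2 hr, TensorProduct.tmul_zero, zero_mul]
        · intro a b ha hb
          rw [map_add, map_add, ha, hb, add_zero]
      have h2 : π.toLinearMap.comp (LinearMap.id (R := B) (M := R')) = 0 :=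
        hυ.algHom_ext _ _ fun x => by simpa using h1 x
      exact one_ne_zero (α := Q) ((map_one π).symm.trans (DFunLike.congr_fun h2 1))
    refine ⟨s, fun y => ?_⟩
    by_contra hy
    have hy' : (Submodule.Quotient.mk y : V) ∉ Submodule.span (R ⧸ I) {(Submodule.Quotient.mk s : V)} := by
      rintro hmem
      obtain ⟨a, ha⟩ := Submodule.mem_span_singleton.1 hmem
      obtain ⟨a, rfl⟩ := Ideal.Quotient.mk_surjective a
      apply hy
      have : y - a • s ∈ I • (⊤ : Submodule R M) := by
        rw [← Submodule.Quotient.mk_eq_zero, Submodule.Quotient.mk_sub, Submodule.Quotient.mk_smul]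
        exact sub_eq_zero.2 ha.symm
      exact Submodule.mem_sup.2 ⟨a • s, Submodule.mem_span_singleton.2 ⟨a, rfl⟩, _, this, add_sub_cancel _ _⟩
    obtain ⟨φ₂, h₂y, h₂s⟩ := Submodule.exists_dual_map_eq_bot_of_notMem hy' inferInstance
    obtain ⟨φ₁, h₁⟩ := Module.Projective.exists_dual_ne_zero (R ⧸ I) hs
    obtain ⟨c₁, hc₁⟩ := key ((φ₁ (Submodule.Quotient.mk s))⁻¹ • φ₁)
    obtain ⟨c₂, hc₂⟩ := key ((φ₂ (Submodule.Quotient.mk y))⁻¹ • φ₂)
    have hs0 : φ₂ (Submodule.Quotient.mk s) = 0 := by
      have := Submodule.mem_map_of_mem (f := φ₂) (Submodule.mem_span_singleton_self (Submodule.Quotient.mk s : V))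
      rwa [h₂s, Submodule.mem_bot] at this
    have e1 := hc₁ s
    have e2 := hc₂ s
    have e3 := hc₂ y
    rw [LinearMap.smul_apply, smul_eq_mul, inv_mul_cancel₀ h₁, ← Algebra.TensorProduct.one_def] at e1
    rw [LinearMap.smul_apply, hs0, smul_zero, TensorProduct.tmul_zero] at e2
    rw [LinearMap.smul_apply, smul_eq_mul, inv_mul_cancel₀ h₂y, ← Algebra.TensorProduct.one_def] at e3
    have hc0 : c₂ = 0 := by
      calc c₂ = (π (υ s) * c₁) * c₂ := by rw [← e1, one_mul]
        _ = (π (υ s) * c₂) * c₁ := by ring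
        _ = 0 := by rw [← e2, zero_mul]
    rw [hc0, mul_zero] at e3
    exact one_ne_zero e3
  -- combine
  choose s hs using fib
  obtain ⟨σ, hσ⟩ : ∃ σ : M, ∀ m : MaximalSpectrum R, σ - s m ∈ m.asIdeal • (⊤ : Submodule R M) := by
    haveI := Fintype.ofFinite (MaximalSpectrum R)
    have hcop : Pairwise fun i j : MaximalSpectrum R => IsCoprime i.asIdeal j.asIdeal := fun i j hij => by
      dsimp only
      rw [Ideal.isCoprime_iff_sup_eq]
      exact i.isMaximal.coprime_of_ne j.isMaximal fun h => hij (MaximalSpectrum.ext h)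
    have hdelta : ∀ i : MaximalSpectrum R, ∃ r : R, ∀ j, r - (if j = i then (1 : R) else 0) ∈ j.asIdeal :=
      fun i => Ideal.exists_forall_sub_mem_ideal hcop _
    choose e he using hdelta
    refine ⟨∑ i, e i • s i, fun m => ?_⟩
    have : ∑ i, e i • s i - s m = ∑ i, (e i - if m = i then (1 : R) else 0) • s i := by
      simp [sub_smul, Finset.sum_sub_distrib, ite_smul]
    rw [this]
    exact Submodule.sum_mem _ fun i _ => Submodule.smul_mem_smul (he i m) trivial
  have htop : Submodule.span R {σ} = ⊤ := by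
    let N := Submodule.span R {σ}
    have hle : ∀ (m : MaximalSpectrum R) (y : M), y ∈ N ⊔ m.asIdeal • (⊤ : Submodule R M) := fun m y => by
      obtain ⟨a, ha, b, hb, rfl⟩ := Submodule.mem_sup.1 (hs m y)
      obtain ⟨r, rfl⟩ := Submodule.mem_span_singleton.1 ha
      refine Submodule.mem_sup.2 ⟨r • σ, Submodule.mem_span_singleton.2 ⟨r, rfl⟩,
        b - r • (σ - s m), sub_mem hb (Submodule.smul_mem _ r (hσ m)), ?_⟩
      rw [smul_sub]; abel
    haveI : Module.Finite R M := ⟨hfg⟩
    refine top_le_iff.1 fun y _ => ?_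
    by_contra hy
    let J : Ideal R := N.colon {y}
    have hJ : J ≠ ⊤ := fun h => hy (by
      have h1 : (1 : R) ∈ J := h ▸ trivial
      simpa [J] using Submodule.mem_colon.1 h1 y rfl)
    obtain ⟨m, hm, hJm⟩ := Ideal.exists_le_maximal J hJ
    have hq : (⊤ : Submodule R (M ⧸ N)) ≤ m • (⊤ : Submodule R (M ⧸ N)) := fun z _ => by
      obtain ⟨z, rfl⟩ := N.mkQ_surjective z
      obtain ⟨a, ha, b, hb, rfl⟩ := Submodule.mem_sup.1 (hle ⟨m, hm⟩ z)
      rw [map_add, show N.mkQ a = 0 from (Submodule.Quotient.mk_eq_zero _).2 ha, zero_add]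
      have := Submodule.mem_map_of_mem (f := N.mkQ) hb
      rw [Submodule.map_smul''] at this
      exact Submodule.smul_mono le_rfl le_top this
    obtain ⟨r, hr, hrz⟩ := Submodule.exists_sub_one_mem_and_smul_eq_zero_of_fg_of_le_smul m ⊤
      Module.Finite.fg_top hq
    have hrJ : r ∈ J := Submodule.mem_colon.2 fun p hp => by
      obtain rfl : p = y := hp
      refine (Submodule.Quotient.mk_eq_zero _).1 ?_
      rw [Submodule.Quotient.mk_smul]
      exact hrz _ trivial
    exact hm.ne_top ((Ideal.eq_top_iff_one _).2 (by simpa using sub_mem (hJm hrJ) hr))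
  refine ⟨σ, ?_⟩
  have h1 : (1 : R') ∈ LinearMap.range (LinearMap.mulRight B (υ σ)) := by
    obtain ⟨t, ht⟩ := hυ.equiv.surjective 1
    rw [← ht]
    clear ht
    induction t using TensorProduct.induction_on with
    | zero => simp
    | tmul b x =>
      obtain ⟨r, rfl⟩ := Submodule.mem_span_singleton.1 (htop ▸ Submodule.mem_top : x ∈ Submodule.span R {σ})
      exact ⟨b • ρ r, by simp [IsBaseChange.equiv_tmul, hsm]⟩
    | add a b ha hb => rw [map_add]; exact add_mem ha hb
  obtain ⟨c, hc⟩ := h1
  exact IsUnit.of_mul_eq_one_right c hc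

end Groth.Agent.PicSemiLocal
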