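import Groth.Agent.PicSemiLocal.Basic

set_option autoImplicit false
set_option backward.isDefEq.respectTransparency false
set_option backward.isDefEq.respectTransparency.types false
set_option linter.style.haveILetI false

universe u

open CategoryTheory CategoryTheory.Limits AlgebraicGeometry TopologicalSpace Opposite
open Groth.Agent.H23.TrivBasic

namespace Groth.Agent.PicSemiLocal

variable {X S X' S' : Scheme.{u}} {f : X ⟶ S} {g : S' ⟶ S} {g' : X' ⟶ X} {f' : X' ⟶ S'}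

theorem triv_of_triv_pullback (h : IsPullback g' f' f g) [QuasiCompact f] [QuasiSeparated f] [Flat g]
    [Surjective g] [IsAffine S] [IsAffine S'] (hff : g.appTop.hom.FaithfullyFlat)
    (hsl : Finite (MaximalSpectrum Γ(X, ⊤))) {L : X.Modules} (hL : PicF.IsInvertible L)
    (ht : Triv ((Scheme.Modules.pullback g').obj L)) : Triv L := by
  haveI : Coh.IsQCoh L := QCoh.isQCoh_of_isFinLocFree (H23.PullPush.isFinLocFree_of_isInvertible hL)
  letI : Algebra Γ(S, ⊤) Γ(S', ⊤) := (g.appLE ⊤ ⊤ le_rfl).hom.toAlgebra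
  haveI : Module.FaithfullyFlat Γ(S, ⊤) Γ(S', ⊤) := by
    rw [← RingHom.faithfullyFlat_algebraMap_iff]
    show (g.appLE ⊤ ⊤ le_rfl).hom.FaithfullyFlat
    rw [show g.appLE ⊤ ⊤ le_rfl = g.appTop from g.appLE_eq_app]
    exact hff
  letI iA : Algebra Γ(S, ⊤) Γ(X, ⊤) := f.appTop.hom.toAlgebra
  letI iB : Algebra Γ(S', ⊤) Γ(X', ⊤) := f'.appTop.hom.toAlgebra
  letI iA' : Algebra Γ(S, ⊤) Γ(X', ⊤) := (f'.appTop.hom.comp (algebraMap Γ(S, ⊤) Γ(S', ⊤))).toAlgebra
  haveI : IsScalarTower Γ(S, ⊤) Γ(S', ⊤) Γ(X', ⊤) := .of_algebraMap_eq' rfl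
  have hcomm : ∀ a : Γ(S, ⊤), g'.appTop.hom (f.appTop.hom a) = algebraMap Γ(S, ⊤) Γ(X', ⊤) a := by
    intro a
    show _ = f'.appTop.hom ((g.appLE ⊤ ⊤ le_rfl).hom a)
    rw [show g.appLE ⊤ ⊤ le_rfl = g.appTop from g.appLE_eq_app]
    show (f.appTop ≫ g'.appTop).hom a = (g.appTop ≫ f'.appTop).hom a
    rw [← Scheme.Hom.comp_appTop, ← Scheme.Hom.comp_appTop, h.w]
  let ρ : Γ(X, ⊤) →ₐ[Γ(S, ⊤)] Γ(X', ⊤) := { g'.appTop.hom with commutes' := hcomm }
  -- frames on `X'`
  let P := (Scheme.Modules.pullback g').obj (Coh.structureModule X)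
  let p : Γ(P, ⊤) := InvX.pullElt g' (U := ⊤) (show Γ(Coh.structureModule X, ⊤) from (1 : Γ(X, ⊤)))
  have hp : InvX.IsFrame p := InvX.isFrame_pullElt g' (InvX.isFrame_one (X := X) ⊤)
  obtain ⟨e, he⟩ := ht.exists_frame
  have base : ∀ (M : X.Modules) (_ : Coh.IsQCoh M) (ε : Γ((Scheme.Modules.pullback g').obj M, ⊤))
      (_ : InvX.IsFrame ε) (υ : letI : Module Γ(S, ⊤) Γ(M, ⊤) := Module.compHom _ f.appTop.hom
        Γ(M, ⊤) →ₗ[Γ(S, ⊤)] Γ(X', ⊤)),
      (∀ x, (show Γ((Scheme.Modules.pullback g').obj M, ⊤) from InvX.pullElt g' (U := ⊤) x) = υ x • ε) →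
      letI : Module Γ(S, ⊤) Γ(M, ⊤) := Module.compHom _ f.appTop.hom
      IsBaseChange Γ(S', ⊤) υ := by
    intro M hM ε hε υ hυ
    letI : Module Γ(S, ⊤) Γ(M, ⊤) := Module.compHom _ f.appTop.hom
    let P := (Scheme.Modules.pullback g').obj M
    letI : Module Γ(S', ⊤) Γ(P, ⊤) := Module.compHom _ f'.appTop.hom
    letI : Module Γ(S, ⊤) Γ(P, ⊤) := Module.compHom _ (algebraMap Γ(S, ⊤) Γ(S', ⊤))
    haveI : IsScalarTower Γ(S, ⊤) Γ(S', ⊤) Γ(P, ⊤) := .of_algebraMap_smul fun _ _ => rfl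
    let q0 : Γ(X', ⊤) →ₗ[Γ(S', ⊤)] Γ(P, ⊤) :=
      { toFun := fun w => w • (show Γ(P, ⊤) from ε)
        map_add' := fun a b => add_smul a b _
        map_smul' := fun b w => mul_smul (f'.appTop.hom b) w _ }
    let q : Γ(X', ⊤) ≃ₗ[Γ(S', ⊤)] Γ(P, ⊤) := LinearEquiv.ofBijective q0
      (by
        have := hε ⊤ le_rfl
        rw [AModX.res_self] at this
        exact this)
    let l : Γ(M, ⊤) →ₗ[Γ(S, ⊤)] Γ(P, ⊤) := (q.toLinearMap.restrictScalars Γ(S, ⊤)).comp υ
    have hl : IsBaseChange Γ(S', ⊤) l :=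
      CohPullX.bijective_sections_flatBC h hM (U := ⊤) (isAffineOpen_top S) (W := ⊤) (isAffineOpen_top S')
        le_rfl le_rfl l fun x => by
          refine (?_ : l x = υ x • ε).trans ?_
          · rfl
          · rw [← hυ x]
            exact (QCoh.rs_self _ _).symm
    refine IsBaseChange.of_equiv (hl.equiv.trans q.symm) fun x => ?_
    simp [IsBaseChange.equiv_tmul, l]
  -- the structure sheaf
  have hρ : IsBaseChange Γ(S', ⊤) ρ.toLinearMap :=
    base (Coh.structureModule X) (PnCoh.isQCoh_structureModule X) p hp ρ.toLinearMap fun r => by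
      have := InvX.pullElt_smul g' (M := Coh.structureModule X) (U := ⊤) r
        (show Γ(Coh.structureModule X, ⊤) from (1 : Γ(X, ⊤)))
      have e0 : (show Γ(Coh.structureModule X, ⊤) from r) =
          (show Γ(X, ⊤) from r) • (show Γ(Coh.structureModule X, ⊤) from (1 : Γ(X, ⊤))) := (mul_one (show Γ(X, ⊤) from r)).symm
      exact (congrArg (InvX.pullElt g' (U := ⊤)) e0).trans this
  -- the invertible module
  letI : Module Γ(S, ⊤) Γ(L, ⊤) := Module.compHom _ f.appTop.hom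
  haveI : IsScalarTower Γ(S, ⊤) Γ(X, ⊤) Γ(L, ⊤) := .of_algebraMap_smul fun _ _ => rfl
  have hex := fun x : Γ(L, ⊤) =>
    he.exists_coord le_rfl (show Γ((Scheme.Modules.pullback g').obj L, ⊤) from InvX.pullElt g' (U := ⊤) x)
  choose c hc using hex
  simp only [AModX.res_self] at hc
  have huniq : ∀ {a b : Γ(X', ⊤)}, a • e = b • e → a = b := fun {a b} hab =>
    he.coord_unique le_rfl (by rwa [AModX.res_self])
  have hcsmul : ∀ (r : Γ(X, ⊤)) x, c (r • x) = ρ r * c x := fun r x => huniq (by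
    rw [← hc, mul_smul, ← hc]
    exact InvX.pullElt_smul g' r x)
  let υ : Γ(L, ⊤) →ₗ[Γ(S, ⊤)] Γ(X', ⊤) :=
    { toFun := c
      map_add' := fun x y => huniq (by
        rw [add_smul, ← hc, ← hc, ← hc]
        exact map_add (((Scheme.Modules.pullbackPushforwardAdjunction g').unit.app L).app ⊤).hom x y)
      map_smul' := fun a x => by
        show c (f.appTop.hom a • x) = algebraMap Γ(S, ⊤) Γ(X', ⊤) a * c x
        rw [hcsmul, ← hcomm]
        rfl }
  haveI := hsl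
  obtain ⟨s, hs⟩ := exists_isUnit ρ hρ υ (base L inferInstance e he υ hc) hcsmul
  refine triv_of_frame (e := s) (locus_eq_top_iff.1 (top_le_iff.1 fun x _ => ?_))
  haveI : Surjective g' := MorphismProperty.of_isPullback h.flip inferInstance
  obtain ⟨y, rfl⟩ := g'.surjective x
  refine mem_locus_of_pullElt hL g' s ?_ y
  show InvX.IsFrame (show Γ((Scheme.Modules.pullback g').obj L, ⊤) from InvX.pullElt g' (U := ⊤) s)
  rw [hc s]
  exact he.isUnit_smul hs

end Groth.Agent.PicSemiLocal
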